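import Groth.Agent.Books.Reduction2
import Mathlib.LinearAlgebra.Matrix.Charpoly.LinearMap

/-!
# Reductions of ideals: elementary facts
-/

set_option autoImplicit false

universe u

namespace K437.IdealRed

open _root_.IdealRed IsLocalRing

variable {R : Type u} [CommRing R]

/-- An ideal between a reduction and the ideal is a reduction. -/
lemma isReduction_of_le {a b c : Ideal R} (h : IsReduction a b) (hac : a ≤ c) (hcb : c ≤ b) :
    IsReduction c b := by
  obtain ⟨-, s, hs⟩ := h
  refine ⟨hcb, s, le_antisymm ?_ ?_⟩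
  · rw [pow_succ']
    exact Ideal.mul_mono_left hcb
  · rw [← hs]
    exact Ideal.mul_mono_left hac

/-- Transitivity of reductions. -/
lemma isReduction_trans {a b c : Ideal R} (h : IsReduction a b) (h' : IsReduction b c) :
    IsReduction a c := by
  obtain ⟨hab, s, hs⟩ := h
  obtain ⟨hbc, t, ht⟩ := h'
  have key : ∀ k : ℕ, b ^ k * c ^ t = c ^ (t + k) := fun k =>
    Groth.Agent.Books.Reduction2.pow_mul_pow_of_isReduction ht k
  refine ⟨hab.trans hbc, t + s, ?_⟩
  calc a * c ^ (t + s) = a * b ^ s * c ^ t := by rw [← key s, mul_assoc]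
    _ = b ^ (s + 1) * c ^ t := by rw [hs]
    _ = c ^ (t + s + 1) := by rw [key (s + 1), add_assoc]

lemma isReduction_refl (a : Ideal R) : IsReduction a a :=
  ⟨le_rfl, 0, by simp⟩

/-- Minimal generators of a finitely generated ideal, indexed by `Fin`. -/
lemma exists_fin_span (a : Ideal R) (ha : a.FG) :
    ∃ y : Fin (Submodule.spanFinrank a) → R, Ideal.span (Set.range y) = a := by
  obtain ⟨u, hucard, huspan⟩ := Submodule.FG.exists_span_finset_card_eq_spanFinrank ha
  rw [← hucard]
  refine ⟨fun i => (u.equivFin.symm i : R), ?_⟩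
  have : Set.range (fun i => (u.equivFin.symm i : R)) = (u : Set R) := by
    ext z
    constructor
    · rintro ⟨i, rfl⟩
      exact (u.equivFin.symm i).2
    · intro hz
      exact ⟨u.equivFin ⟨z, hz⟩, by simp⟩
  rw [this]
  exact huspan

end K437.IdealRed
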